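import Cfsg.Agent.H421.Rows
import Cfsg.Agent.S2474
import Cfsg.Agent.S2475
import Cfsg.Agent.S2476
import Cfsg.Agent.S2469
import Cfsg.Agent.H422.Graph_m3
import Cfsg.Agent.H423.PSpSix
import Cfsg.Agent.H426.SixExc
import Cfsg.Agent.H377.OddThree_m3
import Cfsg.Agent.H380.UF.Rec_m3
import Cfsg.Agent.H124.SUThreeEig
import Cfsg.Agent.H422.UFour
import Cfsg.Agent.H379.J2Spec
import Cfsg.Agent.UGT.U2.Rec.Congr
import Cfsg.Agent.H403.TitsSixteen
import Cfsg.Agent.H421.Six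
import Cfsg.Agent.H413.U45.KerTwo_m3
import Cfsg.Agent.H493.PGCount_m3
import Cfsg.Agent.H421.Act
import Cfsg.Agent.S4008
import Cfsg.Agent.H478.AlmostSimple
import Cfsg.Agent.SignalizersComponents.ComponentExists
import Cfsg.Agent.Prune
set_option linter.all false

section
prune_inst 0x7f00000000000000000000000000000000000000000000000000000000000000000000000000000000000000000000000000000000000000000000000000000000000000000000000000000000000000003fffffffffffffffffffffffffffbeffbdffffffff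

-- part: H799/U45/Name
section
set_option linter.all false
open scoped Cfsg.Agent.FastGrp

-- part: H799/U45/RowsA
section
/-!
# Elements of orders 14, 65, 91 in some simple groups with prime divisors 2, 3, 5, 7, 13 (helper799)
-/

set_option autoImplicit false

namespace Cfsg.Agent.H799.U45

open Cfsg Cfsg.Agent.OrdDiv Cfsg.Agent.H421.Rows Cfsg.Agent.LieClassical.FieldTransfer

universe u

theorem charP_of_card {F : Type*} [Field F] [Fintype F] {p k : ℕ} (hp : p.Prime) (hF : Fintype.card F = p ^ k) :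
    CharP F p := by
  obtain ⟨r, hr⟩ := CharP.exists F
  have hrp : Fact r.Prime := ⟨CharP.char_is_prime F r⟩
  obtain ⟨n, -, hn'⟩ := FiniteField.card F r
  have h1 : r ∣ p ^ k := by
    rw [← hF, hn']
    exact dvd_pow_self r n.ne_zero
  have h2 : r = p := (Nat.prime_dvd_prime_iff_eq hrp.out hp).1 (hrp.out.dvd_of_dvd_pow h1)
  rw [← h2]
  exact hr

variable {S : Type u} [Group S]

theorem psl_two_27 (h : Real (.psl 2 27) S) : ∃ s : S, orderOf s = 2 * 7 := by
  obtain ⟨F, iF, iF', hF, ⟨e⟩⟩ := h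
  have hp : Fact (Nat.Prime 3) := ⟨by norm_num⟩
  have hc : CharP F 3 := charP_of_card (k := 3) hp.out hF
  have h1 : (2 * 7 : ℕ) ∈ Set.range (orderOf : Matrix.ProjectiveSpecialLinearGroup (Fin 2) F → ℕ) := by
    rw [S2475.result 3 (by rw [hF]; norm_num), hF]
    exact Or.inr (Or.inr (by decide))
  exact orderOf_equiv e h1

theorem psl_two_64 (h : Real (.psl 2 64) S) : ∃ s : S, orderOf s = 5 * 13 := by
  obtain ⟨F, iF, iF', hF, ⟨e⟩⟩ := h
  have hp : Fact (Nat.Prime 2) := ⟨by norm_num⟩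
  have hc : CharP F 2 := charP_of_card (k := 6) hp.out hF
  have h1 : (5 * 13 : ℕ) ∈ Set.range (orderOf : Matrix.ProjectiveSpecialLinearGroup (Fin 2) F → ℕ) := by
    rw [S2475.result 2 (by rw [hF]; norm_num), hF]
    exact Or.inr (Or.inr (by decide))
  exact orderOf_equiv e h1

theorem psl_three_9 (h : Real (.psl 3 9) S) : ∃ s : S, orderOf s = 7 * 13 := by
  obtain ⟨F, iF, iF', hF, ⟨e⟩⟩ := h
  have hp : Fact (Nat.Prime 3) := ⟨by norm_num⟩
  have hc : CharP F 3 := charP_of_card (k := 2) hp.out hF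
  have h1 : (7 * 13 : ℕ) ∈ Set.range (orderOf : Matrix.ProjectiveSpecialLinearGroup (Fin 3) F → ℕ) := by
    rw [S2476.result 3, hF]
    exact Or.inl (by decide)
  exact orderOf_equiv e h1

theorem psp_two_7 (h : Real (.psp 2 7) S) : ∃ s : S, orderOf s = 2 * 7 := by
  obtain ⟨F, iF, iF', hF, ⟨e⟩⟩ := h
  have : Fact (Nat.Prime 7) := ⟨by norm_num⟩
  exact orderOf_equiv (e.trans (pspCongr 2 (FiniteField.ringEquivOfCardEq (hF.trans (ZMod.card 7).symm))))
    H422.Elim.psp_two_seven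

theorem card_of_eq {F : Type} [Field F] [Fintype F] (m : ℕ) (S' : Type u) [Group S'] (e : S' ≃* PSp m F) {r : ℕ}
    (h : r ∣ Nat.card S') : r ∣ Nat.card (PSp m F) := by
  rwa [← Nat.card_congr e.toEquiv]

theorem ord5 : orderOf ((8 : ℕ) : ZMod 5) = 4 :=
  orderOf_eq_of_pow_and_pow_div_prime (n := 4) (by norm_num) (by decide) (by
    intro p hp hd
    have : p = 2 := (Nat.prime_dvd_prime_iff_eq hp Nat.prime_two).1 (hp.dvd_of_dvd_pow (n := 2) hd)
    subst this; decide)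

theorem ord13 : orderOf ((8 : ℕ) : ZMod 13) = 4 :=
  orderOf_eq_of_pow_and_pow_div_prime (n := 4) (by norm_num) (by decide) (by
    intro p hp hd
    have : p = 2 := (Nat.prime_dvd_prime_iff_eq hp Nat.prime_two).1 (hp.dvd_of_dvd_pow (n := 2) hd)
    subst this; decide)

theorem psp_two_8 (hS : 5 ∣ Nat.card S ∧ 13 ∣ Nat.card S) (h : Real (.psp 2 8) S) :
    ∃ s : S, orderOf s = 5 * 13 := by
  obtain ⟨F, iF, iF', hF, ⟨e⟩⟩ := h
  have hp : Fact (Nat.Prime 2) := ⟨by norm_num⟩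
  have hc : CharP F 2 := charP_of_card (k := 3) hp.out hF
  have h5 : 4 = orderOf ((Fintype.card F : ℕ) : ZMod 5) := by rw [hF, ord5]
  have h13 : 4 = orderOf ((Fintype.card F : ℕ) : ZMod 13) := by rw [hF, ord13]
  have h1 := S2469.result (F := F) 2 2 le_rfl (fun _ => by rw [hF]; norm_num) 5 13 (by norm_num) (by norm_num)
    (by norm_num) (by norm_num) (by norm_num) (by norm_num) (by norm_num) (card_of_eq 2 S e hS.1)
    (card_of_eq 2 S e hS.2) 4 4 2 2 h5 h13 (Or.inr ⟨by decide, rfl⟩) (Or.inr ⟨by decide, rfl⟩) le_rfl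
  have h2 : (5 * 13 : ℕ) ∈ Set.range (orderOf : PSp 2 F → ℕ) := by
    by_contra hn
    exact (h1.1 hn).2 ⟨1, odd_one, rfl⟩
  exact orderOf_equiv e h2

theorem psp_three_3 (h : Real (.psp 3 3) S) : ∃ s : S, orderOf s = 2 * 7 := by
  obtain ⟨F, iF, iF', hF, ⟨e⟩⟩ := h
  have : Fact (Nat.Prime 3) := ⟨by norm_num⟩
  exact orderOf_equiv (e.trans (pspCongr 3 (FiniteField.ringEquivOfCardEq (hF.trans (ZMod.card 3).symm))))
    H423.PSpSix.exists14

theorem oodd_three_3 (h : Real (.oodd 3 3) S) : ∃ s : S, orderOf s = 2 * 7 := by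
  obtain ⟨F, iF, iF', hF, ⟨e⟩⟩ := h
  have : Fact (Nat.Prime 3) := ⟨by norm_num⟩
  have h1 := S2474.result (F := F) (by rw [hF]; decide) 3 le_rfl 2 7 (by norm_num) (by norm_num) (by norm_num)
  obtain ⟨g, hg⟩ := h1.2 (orderOf_equiv (pspCongr 3 (FiniteField.ringEquivOfCardEq
    (hF.trans (ZMod.card 3).symm))) H423.PSpSix.exists14)
  exact orderOf_equiv e ⟨g, hg⟩

theorem oplus_four_3 (h : Real (.oplus 4 3) S) : ∃ s : S, orderOf s = 2 * 7 := by
  obtain ⟨F, iF, iF', hF, ⟨e⟩⟩ := h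
  refine orderOf_equiv e ?_
  have h1 : H377.Elt F 3 (-1) 28 := H377.elt_tor_minus (by norm_num) (by
    rw [Nat.card_eq_fintype_card, hF]; decide)
  have h2 : H377.Elt2 F (3 + 1) (-1 * -1) (28 / 2) := h1.add_two le_rfl (Or.inr rfl) (by decide)
  exact H377.Elt2.plus (m := 4) (N := 2 * 7) le_rfl h2

theorem td4_2 (h : Real (.td4 2) S) : ∃ s : S, orderOf s = 2 * 7 := by
  obtain ⟨F, iF, iF', hF, ⟨e⟩⟩ := h
  have hp : Fact (Nat.Prime 2) := ⟨by norm_num⟩
  have hc : CharP F 2 := charP_of_card (k := 3) hp.out hF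
  refine orderOf_equiv e ?_
  obtain ⟨g, hg⟩ := H426.SixExc.td4 (K := F) 2 (Q := 2) (r := 7) Nat.prime_two.isPrimePow hF (by norm_num)
    (by norm_num) (by decide)
  exact ⟨g, hg⟩

end Cfsg.Agent.H799.U45
end

-- part: H799/U45/RowsB
section
/-!
# Noncyclic abelian subgroups of some simple groups, I (helper799)
-/

set_option autoImplicit false

namespace Cfsg.Agent.H799.U45

open Cfsg Cfsg.Agent.OrdDiv Cfsg.Agent.H421.Rows Cfsg.Agent.LieClassical.FieldTransfer Matrix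

universe u

section
open Equiv

theorem alt_7 : Pair 3 (alternatingGroup (Fin 7)) :=
  pair_of_pows (by norm_num) (x := ⟨_root_.Equiv.swap (0 : Fin 7) 1 * _root_.Equiv.swap (1 : Fin 7) 2, Equiv.Perm.mem_alternatingGroup.2 (by decide)⟩) (y := ⟨swap (3 : Fin 7) 4 * swap (4 : Fin 7) 5, Equiv.Perm.mem_alternatingGroup.2 (by decide)⟩)
    (Subtype.ext (by decide)) (fun h => absurd (congrArg Subtype.val h) (by decide)) (Subtype.ext (by decide))
    (Subtype.ext (by decide)) (by decide +kernel)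

theorem alt_8 : Pair 3 (alternatingGroup (Fin 8)) :=
  pair_of_pows (by norm_num) (x := ⟨_root_.Equiv.swap (0 : Fin 8) 1 * _root_.Equiv.swap (1 : Fin 8) 2, Equiv.Perm.mem_alternatingGroup.2 (by decide)⟩) (y := ⟨swap (3 : Fin 8) 4 * swap (4 : Fin 8) 5, Equiv.Perm.mem_alternatingGroup.2 (by decide)⟩)
    (Subtype.ext (by decide)) (fun h => absurd (congrArg Subtype.val h) (by decide)) (Subtype.ext (by decide))
    (Subtype.ext (by decide)) (by decide +kernel)

theorem alt_9 : Pair 3 (alternatingGroup (Fin 9)) :=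
  pair_of_pows (by norm_num) (x := ⟨_root_.Equiv.swap (0 : Fin 9) 1 * _root_.Equiv.swap (1 : Fin 9) 2, Equiv.Perm.mem_alternatingGroup.2 (by decide)⟩) (y := ⟨swap (3 : Fin 9) 4 * swap (4 : Fin 9) 5, Equiv.Perm.mem_alternatingGroup.2 (by decide)⟩)
    (Subtype.ext (by decide)) (fun h => absurd (congrArg Subtype.val h) (by decide)) (Subtype.ext (by decide))
    (Subtype.ext (by decide)) (by decide +kernel)

theorem alt_10 : Pair 3 (alternatingGroup (Fin 10)) :=
  pair_of_pows (by norm_num) (x := ⟨_root_.Equiv.swap (0 : Fin 10) 1 * _root_.Equiv.swap (1 : Fin 10) 2, Equiv.Perm.mem_alternatingGroup.2 (by decide)⟩) (y := ⟨swap (3 : Fin 10) 4 * swap (4 : Fin 10) 5, Equiv.Perm.mem_alternatingGroup.2 (by decide)⟩)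
    (Subtype.ext (by decide)) (fun h => absurd (congrArg Subtype.val h) (by decide)) (Subtype.ext (by decide))
    (Subtype.ext (by decide)) (by decide +kernel)

end

variable {S : Type u} [Group S]

/-- in a central quotient -/
theorem pair_mk {r : ℕ} (hr : r.Prime) {G : Type*} [Group G] {x y u v : G} (hx : x ^ r = 1) (hy : y ^ r = 1)
    (hxy : x * y = y * x) (h1 : x * u ≠ u * x) (h2 : ∀ k < r, (x ^ k * y) * v ≠ v * (x ^ k * y)) :
    Pair r (G ⧸ Subgroup.center G) := by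
  refine pair_of_pows hr (x := QuotientGroup.mk x) (y := QuotientGroup.mk y) ?_ ?_ ?_ ?_ ?_
  · rw [← QuotientGroup.mk_pow, hx, QuotientGroup.mk_one]
  · intro h
    rw [QuotientGroup.eq_one_iff] at h
    exact h1 (Subgroup.mem_center_iff.1 h u).symm
  · rw [← QuotientGroup.mk_pow, hy, QuotientGroup.mk_one]
  · rw [← QuotientGroup.mk_mul, hxy, QuotientGroup.mk_mul]
  · intro k hk h
    rw [← QuotientGroup.mk_pow] at h
    have h3 := QuotientGroup.eq.1 h
    rcases Nat.eq_zero_or_pos k with rfl | hk0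
    · rw [pow_zero, inv_one, one_mul] at h3
      have := h2 0 hk
      rw [pow_zero, one_mul] at this
      exact this (Subgroup.mem_center_iff.1 h3 v).symm
    · have h4 : (x ^ k)⁻¹ = x ^ (r - k) := by
        rw [inv_eq_iff_mul_eq_one, ← pow_add, Nat.add_sub_cancel' hk.le, hx]
      rw [h4] at h3
      exact h2 (r - k) (by omega) (Subgroup.mem_center_iff.1 h3 v).symm

/-! ### Linear groups -/

theorem psl_three_4 [Finite S] (h9 : 3 ^ 2 ∣ Nat.card S) (h : Real (.psl 3 4) S) : Pair 3 S := by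
  obtain ⟨F, iF, iF', hF, ⟨e⟩⟩ := h
  have hp : Fact (Nat.Prime 2) := ⟨by norm_num⟩
  have hc : CharP F 2 := charP_of_card (k := 2) hp.out hF
  refine pair_of_no_sq (by norm_num) h9 fun g hg => ?_
  have h1 : (3 ^ 2 : ℕ) ∈ Set.range (orderOf : Matrix.ProjectiveSpecialLinearGroup (Fin 3) F → ℕ) :=
    ⟨e g, by rw [MulEquiv.orderOf_eq, hg]⟩
  rw [S2476.result 2, hF] at h1
  rcases h1 with h1 | h1 | h1 | h1 | h1
  · revert h1; decide
  · revert h1; decide
  · revert h1; decide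
  · revert h1; decide
  · revert h1; decide

theorem psl_two_49 [Finite S] (h49 : 7 ^ 2 ∣ Nat.card S) (h : Real (.psl 2 49) S) : Pair 7 S := by
  obtain ⟨F, iF, iF', hF, ⟨e⟩⟩ := h
  have hp : Fact (Nat.Prime 7) := ⟨by norm_num⟩
  have hc : CharP F 7 := charP_of_card (k := 2) hp.out hF
  refine pair_of_no_sq (by norm_num) h49 fun g hg => ?_
  have h1 : (7 ^ 2 : ℕ) ∈ Set.range (orderOf : Matrix.ProjectiveSpecialLinearGroup (Fin 2) F → ℕ) :=
    ⟨e g, by rw [MulEquiv.orderOf_eq, hg]⟩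
  rw [S2475.result 7 (by rw [hF]; norm_num), hF] at h1
  rcases h1 with h1 | h1 | h1
  · revert h1; decide
  · revert h1; decide
  · revert h1; decide

theorem psl_two_25 [Finite S] (h25 : 5 ^ 2 ∣ Nat.card S) (h : Real (.psl 2 25) S) : Pair 5 S := by
  obtain ⟨F, iF, iF', hF, ⟨e⟩⟩ := h
  have hp : Fact (Nat.Prime 5) := ⟨by norm_num⟩
  have hc : CharP F 5 := charP_of_card (k := 2) hp.out hF
  refine pair_of_no_sq (by norm_num) h25 fun g hg => ?_
  have h1 : (5 ^ 2 : ℕ) ∈ Set.range (orderOf : Matrix.ProjectiveSpecialLinearGroup (Fin 2) F → ℕ) :=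
    ⟨e g, by rw [MulEquiv.orderOf_eq, hg]⟩
  rw [S2475.result 5 (by rw [hF]; norm_num), hF] at h1
  rcases h1 with h1 | h1 | h1
  · revert h1; decide
  · revert h1; decide
  · revert h1; decide

section

local instance fact_two : Fact (Nat.Prime 2) := ⟨by norm_num⟩
local instance fact_three : Fact (Nat.Prime 3) := ⟨by norm_num⟩
local instance fact_five : Fact (Nat.Prime 5) := ⟨by norm_num⟩

/-- matrices for `PSL₄(2)` -/
def xM : Matrix (Fin 4) (Fin 4) (ZMod 2) := !![0, 1, 0, 0; 1, 1, 0, 0; 0, 0, 1, 0; 0, 0, 0, 1]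
/-- matrices for `PSL₄(2)` -/
def yM : Matrix (Fin 4) (Fin 4) (ZMod 2) := !![1, 0, 0, 0; 0, 1, 0, 0; 0, 0, 0, 1; 0, 0, 1, 1]
/-- matrices for `PSL₄(2)` -/
def uM : Matrix (Fin 4) (Fin 4) (ZMod 2) := !![1, 0, 1, 0; 0, 1, 0, 0; 0, 0, 1, 0; 0, 0, 0, 1]

/-- elements of `SL₄(2)` -/
def xs : Matrix.SpecialLinearGroup (Fin 4) (ZMod 2) := ⟨xM, by decide +kernel⟩
/-- elements of `SL₄(2)` -/
def ysl : Matrix.SpecialLinearGroup (Fin 4) (ZMod 2) := ⟨yM, by decide +kernel⟩
/-- elements of `SL₄(2)` -/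
def us : Matrix.SpecialLinearGroup (Fin 4) (ZMod 2) := ⟨uM, by decide +kernel⟩

theorem xs_pow (k : ℕ) : (xs ^ k).1 = xM ^ k := Matrix.SpecialLinearGroup.coe_pow _ _

theorem psl42 : Pair 3 (Matrix.ProjectiveSpecialLinearGroup (Fin 4) (ZMod 2)) := by
  refine pair_mk (by norm_num) (x := xs) (y := ysl) (u := us) (v := us) ?_ ?_ ?_ ?_ ?_
  · apply Subtype.ext
    rw [xs_pow]
    change xM ^ 3 = 1
    decide +kernel
  · apply Subtype.ext
    rw [Matrix.SpecialLinearGroup.coe_pow]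
    change yM ^ 3 = 1
    decide +kernel
  · apply Subtype.ext
    change xM * yM = yM * xM
    decide +kernel
  · intro h
    have h1 : xM * uM = uM * xM := congrArg Subtype.val h
    revert h1
    decide +kernel
  · intro k hk h
    have h1 : (xs ^ k).1 * yM * uM = uM * ((xs ^ k).1 * yM) := congrArg Subtype.val h
    rw [xs_pow] at h1
    have h2 : ∀ k < 3, xM ^ k * yM * uM ≠ uM * (xM ^ k * yM) := by decide +kernel
    exact h2 k hk h1

theorem psl_four_2 (h : Real (.psl 4 2) S) : Pair 3 S := by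
  obtain ⟨F, iF, iF', hF, ⟨e⟩⟩ := h
  let e2 : Matrix.ProjectiveSpecialLinearGroup (Fin 4) (ZMod 2) ≃* Matrix.ProjectiveSpecialLinearGroup (Fin 4) F :=
    pslCongr (FiniteField.ringEquivOfCardEq (K := ZMod 2) (K' := F) (by rw [hF, ZMod.card]))
  exact psl42.of_equiv (e.trans e2.symm)

/-! ### Symplectic groups -/

/-- pairs in projective symplectic groups -/
theorem psp_pair {m p r : ℕ} (hr : r.Prime) [Fact p.Prime] {X Y U V : Matrix (Fin m ⊕ Fin m) (Fin m ⊕ Fin m) (ZMod p)}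
    (hX : X * J (Fin m) (ZMod p) * Xᵀ = J (Fin m) (ZMod p)) (hY : Y * J (Fin m) (ZMod p) * Yᵀ = J (Fin m) (ZMod p))
    (hU : U * J (Fin m) (ZMod p) * Uᵀ = J (Fin m) (ZMod p)) (hV : V * J (Fin m) (ZMod p) * Vᵀ = J (Fin m) (ZMod p))
    (h1 : X ^ r = 1) (h2 : Y ^ r = 1) (h3 : X * Y = Y * X) (h4 : X * U ≠ U * X)
    (h5 : ∀ k < r, (X ^ k * Y) * V ≠ V * (X ^ k * Y)) : Pair r (PSp m (ZMod p)) := by
  refine pair_mk hr (G := symplecticGroup (Fin m) (ZMod p)) (x := ⟨X, (SymplecticGroup.mem_iff (A := X)).2 hX⟩)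
    (y := ⟨Y, (SymplecticGroup.mem_iff (A := Y)).2 hY⟩) (u := ⟨U, (SymplecticGroup.mem_iff (A := U)).2 hU⟩)
    (v := ⟨V, (SymplecticGroup.mem_iff (A := V)).2 hV⟩) (Subtype.ext h1) (Subtype.ext h2) (Subtype.ext h3) ?_ ?_
  · intro h
    exact h4 (congrArg Subtype.val h)
  · intro k hk h
    exact h5 k hk (congrArg Subtype.val h)

theorem psp32 : Pair 3 (PSp 3 (ZMod 2)) := by
  refine psp_pair (by norm_num)
    (X := fromBlocks !![0, 0, 0; 0, 1, 0; 0, 0, 1] !![1, 0, 0; 0, 0, 0; 0, 0, 0] !![1, 0, 0; 0, 0, 0; 0, 0, 0] 1)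
    (Y := fromBlocks !![1, 0, 0; 0, 0, 0; 0, 0, 1] !![0, 0, 0; 0, 1, 0; 0, 0, 0] !![0, 0, 0; 0, 1, 0; 0, 0, 0] 1)
    (U := fromBlocks !![0, 1, 0; 1, 0, 0; 0, 0, 1] 0 0 !![0, 1, 0; 1, 0, 0; 0, 0, 1])
    (V := fromBlocks !![1, 0, 0; 0, 0, 1; 0, 1, 0] 0 0 !![1, 0, 0; 0, 0, 1; 0, 1, 0]) ?_ ?_ ?_ ?_ ?_ ?_ ?_ ?_ ?_
  all_goals decide +kernel

theorem psp25 : Pair 5 (PSp 2 (ZMod 5)) := by
  refine psp_pair (by norm_num)
    (X := fromBlocks 1 !![1, 0; 0, 0] 0 1)
    (Y := fromBlocks 1 !![0, 0; 0, 1] 0 1)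
    (U := fromBlocks !![0, 1; 1, 0] 0 0 !![0, 1; 1, 0])
    (V := fromBlocks 1 0 !![0, 0; 0, 1] 1) ?_ ?_ ?_ ?_ ?_ ?_ ?_ ?_ ?_
  all_goals decide +kernel

theorem psp_three_2 (h : Real (.psp 3 2) S) : Pair 3 S := by
  obtain ⟨F, iF, iF', hF, ⟨e⟩⟩ := h
  exact psp32.of_equiv (e.trans (pspCongr 3 (FiniteField.ringEquivOfCardEq (hF.trans (ZMod.card 2).symm))))

theorem psp_two_5 (h : Real (.psp 2 5) S) : Pair 5 S := by
  obtain ⟨F, iF, iF', hF, ⟨e⟩⟩ := h
  exact psp25.of_equiv (e.trans (pspCongr 2 (FiniteField.ringEquivOfCardEq (hF.trans (ZMod.card 5).symm))))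

end

/-! ### Unitary groups -/

theorem psu_three_5 [Finite S] (h9 : 3 ^ 2 ∣ Nat.card S) (h : Real (.psu 3 5) S) : Pair 3 S := by
  obtain ⟨F, iF, iF', hF, ⟨e⟩⟩ := h
  have hp : Fact (Nat.Prime 5) := ⟨by norm_num⟩
  have hc : CharP F 5 := charP_of_card (k := 2) hp.out hF
  refine pair_of_no_sq (by norm_num) h9 fun g hg => ?_
  have h1 := Cfsg.Agent.H124.SUThreeEig.orderOf_dvd hF 5 (e g)
  rw [MulEquiv.orderOf_eq, hg] at h1
  rcases h1 with h1 | h1 | h1 | h1 | h1 <;> revert h1 <;> decide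

theorem psu_three_4 [Finite S] (h25 : 5 ^ 2 ∣ Nat.card S) (h : Real (.psu 3 4) S) : Pair 5 S := by
  obtain ⟨F, iF, iF', hF, ⟨e⟩⟩ := h
  have hp : Fact (Nat.Prime 2) := ⟨by norm_num⟩
  have hc : CharP F 2 := charP_of_card (k := 4) hp.out hF
  refine pair_of_no_sq (by norm_num) h25 fun g hg => ?_
  have h1 := Cfsg.Agent.H124.SUThreeEig.orderOf_dvd hF 2 (e g)
  rw [MulEquiv.orderOf_eq, hg] at h1
  rcases h1 with h1 | h1 | h1 | h1 | h1 <;> revert h1 <;> decide

theorem psu43 : Pair 3 Cfsg.Agent.H422.UFour.U4 := by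
  have h : Pair 3 (Multiplicative Cfsg.Agent.H422.UFour.A3) := by
    refine pair_of_pows (by norm_num) (x := Multiplicative.ofAdd (1, 0, 0, 0))
      (y := Multiplicative.ofAdd (0, 1, 0, 0)) ?_ ?_ ?_ ?_ ?_
    · decide
    · decide
    · decide
    · decide
    · decide
  refine h.map Cfsg.Agent.H422.UFour.f3 ?_
  rw [injective_iff_map_eq_one]
  intro v hv
  exact Cfsg.Agent.H422.UFour.f3_inj hv

theorem psu_four_3 (h : Real (.psu 4 3) S) : Pair 3 S := by
  obtain ⟨F, iF, iF', hF, ⟨e⟩⟩ := h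
  let σ : F ≃+* Cfsg.Agent.ChevalleyStructure.NineField.F9 :=
    FiniteField.ringEquivOfCardEq (hF.trans Cfsg.Agent.ChevalleyStructure.NineField.F9.card_F9.symm)
  exact psu43.of_equiv (e.trans (psuCongr 4 3 σ))

end Cfsg.Agent.H799.U45
end

-- part: H799/U45/RowsC
section
/-!
# Noncyclic abelian subgroups of some simple groups, II (helper799)
-/

set_option autoImplicit false

namespace Cfsg.Agent.H799.U45

open Cfsg Cfsg.Agent.OrdDiv Cfsg.Agent.H421.Rows Cfsg.Agent.LieClassical.FieldTransfer Matrix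

universe u

variable {S : Type u} [Group S]

/-! ### `PΩ⁺₈(2)` -/

section

open Cfsg.Agent.H422.Elim

/-- elements of `GL₄(2)` -/
def lA : GL (Fin 4) K2 := ⟨!![0, 1, 0, 0; 1, 1, 0, 0; 0, 0, 1, 0; 0, 0, 0, 1],
  !![1, 1, 0, 0; 1, 0, 0, 0; 0, 0, 1, 0; 0, 0, 0, 1], by decide +kernel, by decide +kernel⟩
/-- elements of `GL₄(2)` -/
def lB : GL (Fin 4) K2 := ⟨!![1, 0, 0, 0; 0, 1, 0, 0; 0, 0, 0, 1; 0, 0, 1, 1],
  !![1, 0, 0, 0; 0, 1, 0, 0; 0, 0, 1, 1; 0, 0, 1, 0], by decide +kernel, by decide +kernel⟩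
/-- elements of `GL₄(2)` -/
def lTA : GL (Fin 4) K2 := ⟨!![0, 1, 0, 0; 1, 0, 0, 0; 0, 0, 1, 0; 0, 0, 0, 1],
  !![0, 1, 0, 0; 1, 0, 0, 0; 0, 0, 1, 0; 0, 0, 0, 1], by decide +kernel, by decide +kernel⟩
/-- elements of `GL₄(2)` -/
def lTB : GL (Fin 4) K2 := ⟨!![1, 0, 0, 0; 0, 1, 0, 0; 0, 0, 0, 1; 0, 0, 1, 0],
  !![1, 0, 0, 0; 0, 1, 0, 0; 0, 0, 0, 1; 0, 0, 1, 0], by decide +kernel, by decide +kernel⟩
/-- elements of `GL₄(2)` -/
def lK : GL (Fin 4) K2 := ⟨!![1, 0, 0, 0; 0, 0, 1, 0; 0, 1, 0, 0; 0, 0, 0, 1],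
  !![1, 0, 0, 0; 0, 0, 1, 0; 0, 1, 0, 0; 0, 0, 0, 1], by decide +kernel, by decide +kernel⟩

theorem comm_A : lTA * lA * lTA⁻¹ * lA⁻¹ = lA := by
  rw [mul_inv_eq_iff_eq_mul, mul_inv_eq_iff_eq_mul]
  decide +kernel

theorem comm_B : lTB * lB * lTB⁻¹ * lB⁻¹ = lB := by
  rw [mul_inv_eq_iff_eq_mul, mul_inv_eq_iff_eq_mul]
  decide +kernel

theorem levi_mem_A : levi 4 K2 lA ∈ Omega K2 (quadFormPlus 4 K2) := by
  rw [← comm_A, map_mul, map_mul, map_mul, map_inv, map_inv]
  exact Subgroup.commutator_mem_commutator (Subgroup.mem_top _) (Subgroup.mem_top _)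

theorem levi_mem_B : levi 4 K2 lB ∈ Omega K2 (quadFormPlus 4 K2) := by
  rw [← comm_B, map_mul, map_mul, map_mul, map_inv, map_inv]
  exact Subgroup.commutator_mem_commutator (Subgroup.mem_top _) (Subgroup.mem_top _)

/-- elements of `Ω⁺₈(2)` -/
def oA : Omega K2 (quadFormPlus 4 K2) := ⟨levi 4 K2 lA, levi_mem_A⟩
/-- elements of `Ω⁺₈(2)` -/
def oB : Omega K2 (quadFormPlus 4 K2) := ⟨levi 4 K2 lB, levi_mem_B⟩
/-- elements of `Ω⁺₈(2)` -/
def oKA : Omega K2 (quadFormPlus 4 K2) :=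
  ⟨levi 4 K2 lK * levi 4 K2 lA * (levi 4 K2 lK)⁻¹, Subgroup.Normal.conj_mem inferInstance _ levi_mem_A _⟩

theorem lA_pow : lA ^ 3 = 1 := Units.ext (by
  rw [Units.val_pow_eq_pow_val]
  change (!![0, 1, 0, 0; 1, 1, 0, 0; 0, 0, 1, 0; 0, 0, 0, 1] : Matrix (Fin 4) (Fin 4) K2) ^ 3 = 1
  decide +kernel)

theorem lB_pow : lB ^ 3 = 1 := Units.ext (by
  rw [Units.val_pow_eq_pow_val]
  change (!![1, 0, 0, 0; 0, 1, 0, 0; 0, 0, 0, 1; 0, 0, 1, 1] : Matrix (Fin 4) (Fin 4) K2) ^ 3 = 1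
  decide +kernel)

theorem lAB : lA * lB = lB * lA := by decide +kernel

theorem ne_A : lA * (lK * lA * lK⁻¹) ≠ (lK * lA * lK⁻¹) * lA := by decide +kernel

theorem ne_AB : ∀ k < 3, (lA ^ k * lB) * (lK * lA * lK⁻¹) ≠ (lK * lA * lK⁻¹) * (lA ^ k * lB) := by decide +kernel

theorem oplus42 : Pair 3 (POmega K2 (quadFormPlus 4 K2)) := by
  refine pair_mk (by norm_num) (x := oA) (y := oB) (u := oKA) (v := oKA) ?_ ?_ ?_ ?_ ?_
  · apply Subtype.ext
    rw [SubmonoidClass.coe_pow]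
    exact (map_pow _ _ _).symm.trans ((congrArg (levi 4 K2) lA_pow).trans (map_one _))
  · apply Subtype.ext
    rw [SubmonoidClass.coe_pow]
    exact (map_pow _ _ _).symm.trans ((congrArg (levi 4 K2) lB_pow).trans (map_one _))
  · apply Subtype.ext
    exact (map_mul _ _ _).symm.trans ((congrArg (levi 4 K2) lAB).trans (map_mul _ _ _))
  · intro h
    have h1 := congrArg Subtype.val h
    simp only [Subgroup.coe_mul, oA, oKA] at h1
    rw [← map_inv, ← map_mul, ← map_mul, ← map_mul, ← map_mul] at h1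
    exact ne_A (levi_inj h1)
  · intro k hk h
    have h1 := congrArg Subtype.val h
    simp only [Subgroup.coe_mul, SubmonoidClass.coe_pow, oA, oB, oKA] at h1
    rw [← map_pow, ← map_inv, ← map_mul, ← map_mul, ← map_mul, ← map_mul, ← map_mul] at h1
    exact ne_AB k hk (levi_inj h1)

theorem oplus_four_2 (h : Real (.oplus 4 2) S) : Pair 3 S := by
  obtain ⟨F, iF, iF', hF, ⟨e⟩⟩ := h
  have σ : F ≃+* ZMod 2 := FiniteField.ringEquivOfCardEq (hF.trans (ZMod.card 2).symm)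
  obtain ⟨e'⟩ := Cfsg.Agent.UGT.U2.Rec.Congr.nonempty_POmega σ (Q := quadFormPlus 4 F)
    (Q' := quadFormPlus 4 (ZMod 2)) (fun v => by simp [quadFormPlus, map_sum, map_mul])
  exact oplus42.of_equiv (e.trans e')

end

/-! ### `J₂` -/

theorem j2 [Finite S] (h25 : 5 ^ 2 ∣ Nat.card S) (h : Real .j2 S) : Pair 5 S := by
  obtain ⟨e⟩ := h
  refine pair_of_no_sq (by norm_num) h25 fun g hg => ?_
  have h1 : (5 ^ 2 : ℕ) ∈ Set.range (orderOf : Cfsg.Spor.J2 → ℕ) := ⟨e g, by rw [MulEquiv.orderOf_eq, hg]⟩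
  rw [Cfsg.Agent.H379.J2Spec.range_J2] at h1
  revert h1
  simp only [_root_.Finset.coe_insert, _root_.Finset.coe_singleton, _root_.Nat.reducePow, _root_.Set.mem_insert_iff, _root_.OfNat.ofNat_ne_one, _root_.Nat.reduceEqDiff, _root_.Set.mem_singleton_iff, _root_.or_self, _root_.imp_self]

/-! ### The Tits group -/

theorem Pair.congr {r : ℕ} {X : Type*} {Y : Type*} [Group X] (h : Pair r X) [Group Y] (e : X ≃* Y) : Pair r Y :=
  h.map e.toMonoidHom e.injective

section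

open Cfsg.Agent.Omega.TwoF.Tits Cfsg.Agent.Omega.TwoF.Scalar Cfsg.Agent.Omega.TwoF.Orb
  Cfsg.Agent.ChevalleyStructure.Tits.Main

theorem pair_C0 : Pair 5 C := by
  refine pair_of_card (by norm_num) (Cfsg.Agent.CpAutTits.Fus.P)
    (Cfsg.Agent.CpAutTits.Fus.card_P.trans (by norm_num)) ?_
  intro g hg h
  have h1 := (elem_grp two).pow g hg
  have h2 := orderOf_dvd_of_pow_eq_one h1
  rw [h] at h2
  revert h2
  decide

theorem pair_C {X : Type} [Group X] (e : C ≃* X) : Pair 5 X := by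
  have h1 := pair_C0
  exact h1.congr e

end

theorem pair_TT_aux (K : Subgroup (Matrix.GeneralLinearGroup Cfsg.Agent.ChevalleyStructure.Tits.Mat.I52 (ZMod 2)))
    (hK : K = Cfsg.Agent.ChevalleyStructure.Tits.Order.H0)
    (e : Nonempty (↥(_root_.commutator K) ≃* ↥Cfsg.Agent.TitsK.TT)) : Pair 5 ↥Cfsg.Agent.TitsK.TT := by
  subst hK
  obtain ⟨e⟩ := e
  exact pair_C e

theorem pair_TT : Pair 5 ↥Cfsg.Agent.TitsK.TT :=
  pair_TT_aux (Cfsg.Lie.twistedF4 (ZMod 2) 1) Cfsg.Agent.ChevalleyStructure.Tits.Main.T0_eq_H0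
    Cfsg.Agent.TitsK.exists_equiv

theorem tits (h : Real .tits S) : Pair 5 S := by
  obtain ⟨e⟩ := Cfsg.Agent.CpAutTits.Row.exists_equiv h
  have h1 := pair_TT
  exact h1.congr e.symm

/-! ### `PSL₄(3)` -/

section

local instance fact_three' : Fact (Nat.Prime 3) := ⟨by norm_num⟩

/-- matrices for `PSL₄(3)` -/
def dM : Matrix (Fin 4) (Fin 4) (ZMod 3) := !![1, 0, 0, 0; 0, 1, 0, 0; 0, 0, 2, 0; 0, 0, 0, 2]
/-- matrices for `PSL₄(3)` -/
def eM : Matrix (Fin 4) (Fin 4) (ZMod 3) := !![1, 0, 0, 0; 0, 2, 0, 0; 0, 0, 1, 0; 0, 0, 0, 2]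
/-- matrices for `PSL₄(3)` -/
def fM : Matrix (Fin 4) (Fin 4) (ZMod 3) := !![0, 1, 0, 0; 1, 0, 0, 0; 0, 0, 0, 1; 0, 0, 1, 0]

/-- elements of `SL₄(3)` -/
def dS : Matrix.SpecialLinearGroup (Fin 4) (ZMod 3) := ⟨dM, by decide +kernel⟩
/-- elements of `SL₄(3)` -/
def eS : Matrix.SpecialLinearGroup (Fin 4) (ZMod 3) := ⟨eM, by decide +kernel⟩
/-- elements of `SL₄(3)` -/
def fS : Matrix.SpecialLinearGroup (Fin 4) (ZMod 3) := ⟨fM, by decide +kernel⟩

theorem mk_eq_of_neg {x y : Matrix.SpecialLinearGroup (Fin 4) (ZMod 3)} (h : x.1 = -y.1) :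
    (QuotientGroup.mk x : Matrix.ProjectiveSpecialLinearGroup (Fin 4) (ZMod 3)) = QuotientGroup.mk y := by
  rw [QuotientGroup.eq, Matrix.SpecialLinearGroup.mem_center_iff]
  refine ⟨-1, by decide, ?_⟩
  have h1 : (x⁻¹ * y).1 = -1 := by
    have h2 : (x⁻¹ * x).1 = 1 := by rw [inv_mul_cancel]; rfl
    rw [Matrix.SpecialLinearGroup.coe_mul] at h2 ⊢
    have h3 : (y : Matrix (Fin 4) (Fin 4) (ZMod 3)) = - x.1 := by
      rw [h, neg_neg]
    change (x⁻¹).1 * y.1 = -1
    rw [h3, Matrix.mul_neg]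
    rw [show (x⁻¹).1 * x.1 = 1 from h2]
  rw [h1]
  decide +kernel

theorem psl43 : Big (Matrix.ProjectiveSpecialLinearGroup (Fin 4) (ZMod 3)) := by
  have hne : ∀ A : Matrix.SpecialLinearGroup (Fin 4) (ZMod 3), (∀ r : ZMod 3, Matrix.scalar (Fin 4) r ≠ A.1) →
      (QuotientGroup.mk A : Matrix.ProjectiveSpecialLinearGroup (Fin 4) (ZMod 3)) ≠ 1 := fun A h => not_center h
  have hsq : ∀ A : Matrix.SpecialLinearGroup (Fin 4) (ZMod 3), A.1 * A.1 = 1 →
      (QuotientGroup.mk A : Matrix.ProjectiveSpecialLinearGroup (Fin 4) (ZMod 3)) * QuotientGroup.mk A = 1 := by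
    intro A h
    rw [← QuotientGroup.mk_mul, show A * A = 1 from Subtype.ext h, QuotientGroup.mk_one]
  have hd := hsq dS (by change dM * dM = 1; decide +kernel)
  have he := hsq eS (by change eM * eM = 1; decide +kernel)
  have hf := hsq fS (by change fM * fM = 1; decide +kernel)
  have hne2 : ∀ A B : Matrix.SpecialLinearGroup (Fin 4) (ZMod 3),
      (QuotientGroup.mk A : Matrix.ProjectiveSpecialLinearGroup (Fin 4) (ZMod 3)) * QuotientGroup.mk A = 1 →
      (∀ r : ZMod 3, Matrix.scalar (Fin 4) r ≠ (A * B).1) →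
      (QuotientGroup.mk A : Matrix.ProjectiveSpecialLinearGroup (Fin 4) (ZMod 3)) ≠ QuotientGroup.mk B := by
    intro A B h1 h2 h3
    apply hne (A * B) h2
    rw [QuotientGroup.mk_mul, ← h3, h1]
  refine big_of (a := QuotientGroup.mk dS) (b := QuotientGroup.mk eS) (c := QuotientGroup.mk fS) hd he hf ?_ ?_ ?_ ?_ ?_
    ?_ ?_ ?_ ?_ ?_
  · rw [← QuotientGroup.mk_mul, ← QuotientGroup.mk_mul]
    (with_reducible congr 1)
    apply Subtype.ext
    change dM * eM = eM * dM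
    decide +kernel
  · rw [← QuotientGroup.mk_mul, ← QuotientGroup.mk_mul]
    (with_reducible congr 1)
    apply Subtype.ext
    change dM * fM = fM * dM
    decide +kernel
  · rw [← QuotientGroup.mk_mul, ← QuotientGroup.mk_mul]
    apply mk_eq_of_neg
    change eM * fM = -(fM * eM)
    decide +kernel
  · apply hne
    change ∀ r : ZMod 3, Matrix.scalar (Fin 4) r ≠ dM
    decide +kernel
  · apply hne
    change ∀ r : ZMod 3, Matrix.scalar (Fin 4) r ≠ eM
    decide +kernel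
  · apply hne2 _ _ hd
    change ∀ r : ZMod 3, Matrix.scalar (Fin 4) r ≠ dM * eM
    decide +kernel
  · apply hne
    change ∀ r : ZMod 3, Matrix.scalar (Fin 4) r ≠ fM
    decide +kernel
  · apply hne2 _ _ hf
    change ∀ r : ZMod 3, Matrix.scalar (Fin 4) r ≠ fM * dM
    decide +kernel
  · apply hne2 _ _ hf
    change ∀ r : ZMod 3, Matrix.scalar (Fin 4) r ≠ fM * eM
    decide +kernel
  · rw [← QuotientGroup.mk_mul]
    apply hne2 _ _ hf
    change ∀ r : ZMod 3, Matrix.scalar (Fin 4) r ≠ fM * (dM * eM)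
    decide +kernel

theorem psl_four_3 (h : Real (.psl 4 3) S) : Big S := by
  obtain ⟨F, iF, iF', hF, ⟨e⟩⟩ := h
  let e2 : Matrix.ProjectiveSpecialLinearGroup (Fin 4) (ZMod 3) ≃* Matrix.ProjectiveSpecialLinearGroup (Fin 4) F :=
    pslCongr (FiniteField.ringEquivOfCardEq (K := ZMod 3) (K' := F) (by rw [hF, ZMod.card]))
  exact psl43.of_equiv (e.trans e2.symm)

end

end Cfsg.Agent.H799.U45
end

-- part: H799/U45/Name
section
/-!
# Groups with the prime graph of `PSU₄(5)`: the candidates for the simple section (helper799)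

`naming` : the simple section is `PSU₄(5)`, `PSL₂(13)`, `G₂(4)` or `Sz(8)`.
-/

set_option autoImplicit false

namespace Cfsg.Agent.H799.U45

open Cfsg Cfsg.Agent.OrdDiv Cfsg.Agent.H413.U45 Cfsg.Agent.H421.Six

universe u

/-- names which are excluded by an element of order 14, 91, or 65 -/
def la : List Grp := [.psl 2 27, .psl 2 64, .psl 3 9, .psp 2 7, .psp 2 8, .psp 3 3, .oodd 3 3, .oplus 4 3, .td4 2]
/-- names of groups of order not divisible by 13 -/
def lb : List Grp := [.alt 7, .alt 8, .alt 9, .alt 10, .psl 2 49, .psl 3 4, .psl 4 2, .psu 3 5, .psu 4 3, .psp 3 2,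
  .oplus 4 2, .j2]
/-- names of groups of order not divisible by 7 -/
def lc : List Grp := [.psl 2 25, .psu 3 4, .psp 2 5, .tits, .psl 4 3]
/-- the remaining names -/
def lr : List Grp := [.psu 4 5, .psl 2 13, .g2 4, .sz 8]

/-- the `a`-part of `n` is `a` or `a²`, and not 1 modulo `t` -/
def part (a t n : ℕ) : Prop :=
  (n = a ^ 1 * (n / a) ∧ ¬ a ∣ n / a ∧ a % t ≠ 1) ∨ (n = a ^ 2 * (n / a ^ 2) ∧ ¬ a ∣ n / a ^ 2 ∧ a ^ 2 % t ≠ 1)

instance decPart (a t n : ℕ) : Decidable (part a t n) := by unfold part; infer_instance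

open Cfsg.Agent.H421.Narrow in
theorem nl_check : ∀ g ∈ NL, ¬ 11 ∣ ordN g →
    (5 ∣ ordN g ∧ 7 ∣ ordN g ∨ 5 ∣ ordN g ∧ 13 ∣ ordN g ∨ 7 ∣ ordN g ∧ 13 ∣ ordN g) →
    g ∈ lr ∨ g ∈ la ∨ (g ∈ lb ∧ ¬ 13 ∣ ordN g ∧ part 7 13 (ordN g)) ∨ (g ∈ lc ∧ ¬ 7 ∣ ordN g ∧ part 13 7 (ordN g)) ∨
      (g = .g2 3 ∧ ¬ 5 ∣ ordN g ∧ part 7 5 (ordN g)) := by
  decide +kernel

theorem not_modEq_of_part {a t n : ℕ} (ha : a.Prime) (ht : 1 < t) (h : part a t n) :
    ¬ a ^ n.factorization a ≡ 1 [MOD t] := by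
  rcases h with ⟨h1, h2, h3⟩ | ⟨h1, h2, h3⟩
  · rw [factorization_eq ha h1 h2, pow_one]
    intro h
    apply h3
    rw [h, Nat.mod_eq_of_lt ht]
  · rw [factorization_eq ha h1 h2]
    intro h
    apply h3
    rw [h, Nat.mod_eq_of_lt ht]

/-- at most one of 5, 7, 13 divides `|K| |G/K : S|` -/
theorem at_most_one {G : Type u} [Group G] [Finite G] (h : Gr G) {K : Subgroup G} [K.Normal] {S : Subgroup (G ⧸ K)}
    (hs : Cfsg.Agent.H413.U45.Sec G K S) {r s : ℕ} (hr : r ∈ ({5, 7, 13} : Finset ℕ)) (hs' : s ∈ ({5, 7, 13} : Finset ℕ))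
    (hrd : r ∣ Nat.card K * S.index) (hsd : s ∣ Nat.card K * S.index) : r = s := by
  classical
  have hSn := hs.normal
  let φ : G →* (G ⧸ K) ⧸ S := (QuotientGroup.mk' S).comp (QuotientGroup.mk' K)
  have hφ : Function.Surjective φ := (QuotientGroup.mk'_surjective S).comp (QuotientGroup.mk'_surjective K)
  have hKM : K ≤ φ.ker := by
    intro k hk
    rw [MonoidHom.mem_ker]
    change QuotientGroup.mk' S (QuotientGroup.mk' K k) = 1
    rw [show QuotientGroup.mk' K k = 1 from (QuotientGroup.eq_one_iff k).2 hk, map_one]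
  have hsol : Group.IsSolvable (G ⧸ φ.ker) := by
    have := hs.solQ hSn
    exact Group.isSolvable_of_isSolvable_injective (QuotientGroup.kerLift_injective φ)
  have hidx : φ.ker.index = S.index := by
    rw [Subgroup.index_ker, MonoidHom.range_eq_top.2 hφ, Subgroup.card_top, ← Subgroup.index_eq_card]
  refine Cfsg.Agent.H421.Coclique.coclique_sections K φ.ker hKM hs.solK hsol {5, 7, 13} (by decide) ?_ ?_ hr hs'
    (by rw [hidx]; exact hrd) (by rw [hidx]; exact hsd)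
  · intro x hx
    simp only [Finset.mem_insert, Finset.mem_singleton] at hx
    rcases hx with rfl | rfl | rfl
    · exact ⟨by norm_num, (h.primes 5 (by norm_num)).2 (by norm_num)⟩
    · exact ⟨by norm_num, (h.primes 7 (by norm_num)).2 (by norm_num)⟩
    · exact ⟨by norm_num, (h.primes 13 (by norm_num)).2 (by norm_num)⟩
  · intro x hx y hy hxy
    simp only [Finset.mem_insert, Finset.mem_singleton] at hx hy
    rintro ⟨g, hg⟩
    rcases hx with rfl | rfl | rfl <;> rcases hy with rfl | rfl | rfl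
    · exact hxy rfl
    · exact h.no35 g hg
    · exact h.no65 g hg
    · exact h.no35 g (by rw [hg, mul_comm])
    · exact hxy rfl
    · exact h.no91 g hg
    · exact h.no65 g (by rw [hg, mul_comm])
    · exact h.no91 g (by rw [hg, mul_comm])
    · exact hxy rfl

/-- **The candidates for the simple section.** -/
theorem naming {G : Type u} [Group G] [Finite G] (h : Gr G) {K : Subgroup G} [K.Normal] {S : Subgroup (G ⧸ K)}
    (hs : Cfsg.Agent.H413.U45.Sec G K S) : Real (.psu 4 5) S ∨ Real (.psl 2 13) S ∨ Real (.g2 4) S ∨ Real (.sz 8) S := by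
  have hSn := hs.normal
  have hsimp := hs.simple
  obtain ⟨g, hg⟩ := Cfsg.Agent.H436.name (G := S) hs.nab
  have hord : Nat.card S = ordN g := hg.ord
  have hdS : Nat.card S ∣ Nat.card G := by
    rw [card_eq (K := K) (S := S), ← mul_assoc, mul_comm (Nat.card K), mul_assoc]
    exact dvd_mul_right _ _
  have hpr : ∀ p : ℕ, p.Prime → p ∣ Nat.card S → p = 2 ∨ p = 3 ∨ p = 5 ∨ p = 7 ∨ p = 13 := fun p hp hd =>
    (h.primes p hp).1 (hd.trans hdS)
  have hsm : Cfsg.Agent.H421.Narrow.Sm (Nat.card S) := by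
    intro p hp hd
    have := hpr p hp hd
    omega
  have hNL := Cfsg.Agent.H421.Narrow.narrow hg hsm
  have h11 : ¬ 11 ∣ ordN g := by
    intro hd
    rw [← hord] at hd
    have := hpr 11 (by norm_num) hd
    omega
  have p5 : Nat.Prime 5 := by norm_num
  have p7 : Nat.Prime 7 := by norm_num
  have p13 : Nat.Prime 13 := by norm_num
  have d5 : 5 ∣ Nat.card G := (h.primes 5 p5).2 (by norm_num)
  have d7 : 7 ∣ Nat.card G := (h.primes 7 p7).2 (by norm_num)
  have d13 : 13 ∣ Nat.card G := (h.primes 13 p13).2 (by norm_num)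
  have hmiss : ∀ p : ℕ, p.Prime → p ∣ Nat.card G → ¬ p ∣ ordN g → p ∣ Nat.card K * S.index := by
    intro p hp hd hn
    by_contra hno
    exact hn (hord ▸ dvd_S hp hd hno)
  have htwo : 5 ∣ ordN g ∧ 7 ∣ ordN g ∨ 5 ∣ ordN g ∧ 13 ∣ ordN g ∨ 7 ∣ ordN g ∧ 13 ∣ ordN g := by
    by_cases e5 : 5 ∣ ordN g
    · by_cases e7 : 7 ∣ ordN g
      · exact Or.inl ⟨e5, e7⟩
      · by_cases e13 : 13 ∣ ordN g
        · exact Or.inr (Or.inl ⟨e5, e13⟩)
        · have := at_most_one h hs (r := 7) (s := 13) (by decide) (by decide) (hmiss 7 p7 d7 e7) (hmiss 13 p13 d13 e13)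
          norm_num at this
    · by_cases e7 : 7 ∣ ordN g
      · by_cases e13 : 13 ∣ ordN g
        · exact Or.inr (Or.inr ⟨e7, e13⟩)
        · have := at_most_one h hs (r := 5) (s := 13) (by decide) (by decide) (hmiss 5 p5 d5 e5) (hmiss 13 p13 d13 e13)
          norm_num at this
      · have := at_most_one h hs (r := 5) (s := 7) (by decide) (by decide) (hmiss 5 p5 d5 e5) (hmiss 7 p7 d7 e7)
        norm_num at this
  -- element orders
  have lift : ∀ n : ℕ, (∃ s : S, orderOf s = n) → ∃ x : G, orderOf x = n := fun n hn =>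
    lift_order (K := K) (S := S) hn
  have n14 : ¬ ∃ s : S, orderOf s = 2 * 7 := fun hn => by
    obtain ⟨x, hx⟩ := lift _ hn
    exact h.no14 x hx
  have n65 : ¬ ∃ s : S, orderOf s = 5 * 13 := fun hn => by
    obtain ⟨x, hx⟩ := lift _ hn
    exact h.no65 x hx
  have n91 : ¬ ∃ s : S, orderOf s = 7 * 13 := fun hn => by
    obtain ⟨x, hx⟩ := lift _ hn
    exact h.no91 x hx
  -- pairs
  have hpair : ∀ r t : ℕ, r.Prime → t.Prime → r ≠ 2 → r ≠ t → t ∣ Nat.card K → (∀ x : G, orderOf x ≠ r * t) →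
      ¬ Pair r S := by
    rintro r t hr ht hr2 hrt htK hno ⟨x, y, hx, hy, hxy, hn⟩
    have h1 := comm_mem K ht hr hr2 hrt htK hno (x := (x : G ⧸ K)) (y := (y : G ⧸ K))
      (by rw [Subgroup.orderOf_coe, hx]) (by rw [Subgroup.orderOf_coe, hy]) (congrArg Subtype.val hxy)
    obtain ⟨k, hk⟩ := h1
    exact hn ⟨k, Subtype.ext hk⟩
  rcases nl_check g hNL h11 htwo with hl | hl | ⟨hl, hn, hp⟩ | ⟨hl, hn, hp⟩ | ⟨rfl, hn, hp⟩
  · simp only [lr, List.mem_cons, List.not_mem_nil, or_false] at hl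
    rcases hl with rfl | rfl | rfl | rfl
    · exact Or.inl hg.real
    · exact Or.inr (Or.inl hg.real)
    · exact Or.inr (Or.inr (Or.inl hg.real))
    · exact Or.inr (Or.inr (Or.inr hg.real))
  · exfalso
    simp only [la, List.mem_cons, List.not_mem_nil, or_false] at hl
    rcases hl with rfl | rfl | rfl | rfl | rfl | rfl | rfl | rfl | rfl
    · exact n14 (psl_two_27 hg.real)
    · exact n65 (psl_two_64 hg.real)
    · exact n91 (psl_three_9 hg.real)
    · exact n14 (psp_two_7 hg.real)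
    · exact n65 (psp_two_8 ⟨by rw [hord]; decide +kernel, by rw [hord]; decide +kernel⟩ hg.real)
    · exact n14 (psp_three_3 hg.real)
    · exact n14 (oodd_three_3 hg.real)
    · exact n14 (oplus_four_3 hg.real)
    · exact n14 (td4_2 hg.real)
  · exfalso
    rw [← hord] at hn hp
    obtain ⟨hK, -⟩ := dvd_K (K := K) (S := S) p7 p13 (by norm_num) d13 hn h.no91
      (not_modEq_of_part p7 (by norm_num) hp)
    have q3 := hpair 3 13 Nat.prime_three p13 (by norm_num) (by norm_num) hK h.no39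
    have q5 := hpair 5 13 p5 p13 (by norm_num) (by norm_num) hK h.no65
    have q7 := hpair 7 13 p7 p13 (by norm_num) (by norm_num) hK h.no91
    simp only [lb, List.mem_cons, List.not_mem_nil, or_false] at hl
    rcases hl with rfl | rfl | rfl | rfl | rfl | rfl | rfl | rfl | rfl | rfl | rfl | rfl
    · obtain ⟨e⟩ := hg.real
      exact q3 (alt_7.of_equiv e)
    · obtain ⟨e⟩ := hg.real
      exact q3 (alt_8.of_equiv e)
    · obtain ⟨e⟩ := hg.real
      exact q3 (alt_9.of_equiv e)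
    · obtain ⟨e⟩ := hg.real
      exact q3 (alt_10.of_equiv e)
    · exact q7 (psl_two_49 (by rw [hord]; decide +kernel) hg.real)
    · exact q3 (psl_three_4 (by rw [hord]; decide +kernel) hg.real)
    · exact q3 (psl_four_2 hg.real)
    · exact q3 (psu_three_5 (by rw [hord]; decide +kernel) hg.real)
    · exact q3 (psu_four_3 hg.real)
    · exact q3 (psp_three_2 hg.real)
    · exact q3 (oplus_four_2 hg.real)
    · exact q5 (j2 (by rw [hord]; decide +kernel) hg.real)
  · exfalso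
    rw [← hord] at hn hp
    obtain ⟨hK, -⟩ := dvd_K (K := K) (S := S) p13 p7 (by norm_num) d7 hn
      (fun x hx => h.no91 x (by rw [hx])) (not_modEq_of_part p13 (by norm_num) hp)
    have q5 := hpair 5 7 p5 p7 (by norm_num) (by norm_num) hK h.no35
    simp only [lc, List.mem_cons, List.not_mem_nil, or_false] at hl
    rcases hl with rfl | rfl | rfl | rfl | rfl
    · exact q5 (psl_two_25 (by rw [hord]; decide +kernel) hg.real)
    · exact q5 (psu_three_4 (by rw [hord]; decide +kernel) hg.real)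
    · exact q5 (psp_two_5 hg.real)
    · exact q5 (tits hg.real)
    · obtain ⟨E, hE, hc⟩ := psl_four_3 hg.real
      have h1 := three_inv K p7 (by norm_num) hK h.no14 (E.map S.subtype) (by
        rintro - ⟨e, he, rfl⟩
        rw [← map_mul, hE e he, map_one])
      rw [Subgroup.card_map_of_injective S.subtype_injective] at h1
      omega
  · exfalso
    rw [← hord] at hn hp
    obtain ⟨hK, -⟩ := dvd_K (K := K) (S := S) p7 p5 (by norm_num) d5 hn
      (fun x hx => h.no35 x (by rw [hx])) (not_modEq_of_part p7 (by norm_num) hp)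
    exact frob56_false K hs.solK S hsimp p5 (by norm_num) (by norm_num) hK h.no14 (fun x hx => h.no35 x (by rw [hx]))
      (frob56_g2 hg.real)

end Cfsg.Agent.H799.U45
end

private theorem dce_c302d8e404e9 : _root_.True := by
  try have : _root_.True := by simp only [_root_.Cfsg.Agent.H799.U45.lb.eq_1]
  try have : _root_.True := by simp only [_root_.Cfsg.Agent.H799.U45.oB.eq_1]
  try have : _root_.True := by simp only [_root_.Cfsg.Agent.H799.U45.oA.eq_1]
  try have : _root_.True := by simp only [_root_.Cfsg.Agent.H799.U45.lc.eq_1]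
  try have : _root_.True := by simp only [_root_.Cfsg.Agent.H799.U45.oKA.eq_1]
  try have : _root_.True := by simp only [_root_.Cfsg.Agent.H799.U45.lr.eq_1]
  try have : _root_.True := by simp only [_root_.Cfsg.Agent.H799.U45.la.eq_1]
  exact _root_.True.intro
end

-- part: H413/U45/Reduct
section
set_option linter.all false
open scoped Cfsg.Agent.FastGrp

/-!
# Groups with the prime graph of `PSU(4,5)`: the reduction and the case `PSU(4,5)` (helper413)

* `exists_sec`: the solvable radical and the simple socle of the quotient;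
* `ker_trivial`: if the socle of `G ⧸ K` is `PSU(4,5)` then `K = 1`.
-/

set_option autoImplicit false

namespace Cfsg.Agent.H413.U45.Reduct

open Cfsg.Agent.H380.UF

universe u

theorem exists_sec {G : Type u} [Group G] [Finite G] (hG : Gr G) :
    ∃ (K : Subgroup G) (_ : K.Normal) (S : Subgroup (G ⧸ K)), Sec G K S := by
  have h5 : 5 ∣ Nat.card G := (hG.primes 5 (by norm_num)).2 (by norm_num)
  have h7 : 7 ∣ Nat.card G := (hG.primes 7 (by norm_num)).2 (by norm_num)
  have h13 : 13 ∣ Nat.card G := (hG.primes 13 (by norm_num)).2 (by norm_num)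
  have h2 : 2 ∣ Nat.card G := (hG.primes 2 (by norm_num)).2 (by norm_num)
  have hns : ¬ Group.IsSolvable G := fun hs =>
    H421.Coclique.solvable_no_three hs (r := 5) (s := 7) (t := 13) (by norm_num) (by norm_num) (by norm_num)
      (by norm_num) (by norm_num) (by norm_num) h5 h7 h13 (fun ⟨x, hx⟩ => hG.no35 x hx)
      (fun ⟨x, hx⟩ => hG.no65 x hx) (fun ⟨x, hx⟩ => hG.no91 x hx)
  obtain ⟨R, hRc, hRs, hRmax⟩ := SignalizersComponents.ComponentExists.exists_solvableRadical G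
  obtain ⟨S, hSn, hSs, hSna, hSC⟩ := Cfsg.Agent.S4008.result hns (even_iff_two_dvd.mpr h2) 7 (by norm_num) (by norm_num)
    h7 hG.no14 R hRs hRmax
  exact ⟨R, inferInstance, S,
    { solK := hRs
      normal := hSn
      simple := hSs
      nab := hSna
      cent := hSC
      solQ := fun _ => H478.AlmostSimple.isSolvable_quotient S hSC }⟩

/-- **The kernel is trivial** if the socle is `PSU(4,5)`. -/
theorem ker_trivial {G : Type u} [Group G] [Finite G] (hG : Gr G) (K : Subgroup G) [K.Normal]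
    (hs : Group.IsSolvable K) (S : Subgroup (G ⧸ K)) (e : S ≃* U4) : K = ⊥ := by
  by_contra hK
  obtain ⟨t, V, _, hVn, hVf, ρ, ht, htK, hexp, hfpf⟩ := H421.Act.exists_top K hK hs
  let σ : U4 →* AddMonoid.End V := (ρ.comp S.subtype).comp e.symm.toMonoidHom
  have hord : ∀ x : U4, orderOf ((e.symm x : S) : G ⧸ K) = orderOf x := fun x => by
    rw [Subgroup.orderOf_coe, MulEquiv.orderOf_eq]
  have hf : ∀ r : ℕ, r.Prime → r ≠ t → (∀ g : G, orderOf g ≠ r * t) → ∀ x : U4, orderOf x = r →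
      ∀ v, σ x v = v → v = 0 := by
    intro r hr hrt hno x hx v hv
    exact hfpf r hr hrt hno _ ((hord x).trans hx) v hv
  have hcontr : (∀ v : V, v = 0) → False := by
    intro h
    obtain ⟨a, b, hab⟩ := hVn.exists_pair_ne
    exact hab ((h a).trans (h b).symm)
  have hpair : ∀ x y : U4, x * y = y * x → y ∉ Subgroup.zpowers x →
      ((e.symm y : S) : G ⧸ K) ∉ Subgroup.zpowers ((e.symm x : S) : G ⧸ K) := by
    intro x y hxy hy h
    apply hy
    obtain ⟨n, hn⟩ := Subgroup.mem_zpowers_iff.1 h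
    refine Subgroup.mem_zpowers_iff.2 ⟨n, ?_⟩
    apply e.symm.injective
    rw [map_zpow]
    apply Subtype.ext
    rw [Subgroup.coe_zpow]
    exact hn
  have htG : t ∣ Nat.card G := htK.trans (Subgroup.card_subgroup_dvd_card K)
  rcases (hG.primes t ht).1 htG with rfl | rfl | rfl | rfl | rfl
  · exact hcontr (KerTwo.main σ hexp fun g hg => hf 7 (by norm_num) (by norm_num)
      (fun x hx => hG.no14 x (hx.trans (by norm_num))) g hg)
  · refine hcontr (eq_zero_of_thirteen σ ?_ (hf 13 (by norm_num) (by norm_num)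
      (fun x hx => hG.no39 x (hx.trans (by norm_num))) _ order_13))
    intro v hv
    have h3 := hexp v
    have h6 : (6 : ℕ) • v = 0 := by rw [show (6 : ℕ) = 2 * 3 from rfl, mul_smul, h3, smul_zero]
    rw [show (6 : ℕ) = 5 + 1 from rfl, add_smul, hv, zero_add, one_smul] at h6
    exact h6
  · exact hcontr (eq_zero_of_seven_thirteen σ hexp
      (hf 7 (by norm_num) (by norm_num) (fun x hx => hG.no35 x (hx.trans (by norm_num))))
      (hf 13 (by norm_num) (by norm_num) (fun x hx => hG.no65 x (hx.trans (by norm_num)))))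
  · obtain ⟨x, y, hx, hy, hxy, hn⟩ := pair5
    refine hpair x y hxy hn (comm_mem K (t := 7) (r := 5) (by norm_num) (by norm_num) (by norm_num) (by norm_num)
      htK (fun g hg => hG.no35 g hg) ((hord x).trans hx) ((hord y).trans hy) ?_)
    rw [← Subgroup.coe_mul, ← Subgroup.coe_mul, ← map_mul, ← map_mul, hxy]
  · obtain ⟨x, y, hx, hy, hxy, hn⟩ := pair3
    refine hpair x y hxy hn (comm_mem K (t := 13) (r := 3) (by norm_num) (by norm_num) (by norm_num) (by norm_num)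
      htK (fun g hg => hG.no39 g hg) ((hord x).trans hx) ((hord y).trans hy) ?_)
    rw [← Subgroup.coe_mul, ← Subgroup.coe_mul, ← map_mul, ← map_mul, hxy]

/-- transport of the socle -/
theorem socle_of_equiv {G H : Type*} [Group G] [Group H] (e : G ≃* H) (S : Subgroup H) (hS : S.Normal)
    (hc : Subgroup.centralizer (S : Set H) = ⊥) :
    ∃ N : Subgroup G, N.Normal ∧ Nonempty (N ≃* S) ∧ Subgroup.centralizer (N : Set G) = ⊥ := by
  refine ⟨S.map e.symm.toMonoidHom, hS.map _ e.symm.surjective, ⟨(e.symm.subgroupMap S).symm⟩, ?_⟩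
  rw [eq_bot_iff]
  intro x hx
  rw [Subgroup.mem_bot]
  have h1 : e x ∈ Subgroup.centralizer (S : Set H) := by
    rw [Subgroup.mem_centralizer_iff]
    intro y hy
    have h2 := (Subgroup.mem_centralizer_iff.1 hx) (e.symm y) ⟨y, hy, rfl⟩
    have h3 := congrArg e h2
    rwa [map_mul, map_mul, MulEquiv.apply_symm_apply] at h3
  rw [hc, Subgroup.mem_bot] at h1
  exact (MulEquiv.map_eq_one_iff e).1 h1

/-- the structure theorem from the identification of the socle -/
theorem structure_of (h : ∀ (G : Type u) [Group G] [Finite G] (_ : Gr G) (K : Subgroup G) [K.Normal]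
    (S : Subgroup (G ⧸ K)) (_ : Sec G K S), Nonempty (S ≃* U4)) : Structure.{u} := by
  intro G _ _ hG
  obtain ⟨K, hKn, S, hS⟩ := exists_sec hG
  obtain ⟨e⟩ := h G hG K S hS
  have hK := ker_trivial hG K hS.solK S e
  subst hK
  obtain ⟨N, hN, ⟨f⟩, hc⟩ := socle_of_equiv (QuotientGroup.quotientBot.symm : G ≃* G ⧸ (⊥ : Subgroup G)) S
    hS.normal hS.cent
  exact ⟨N, hN, ⟨f.trans e⟩, hc⟩

end Cfsg.Agent.H413.U45.Reduct
end

-- part: H380/UF/Final
section
set_option linter.all false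

/-!
# The structure theorem for groups with the prime graph of `PSU(4,5)`
-/

set_option autoImplicit false

namespace Cfsg.Agent.H380.UF.Final

open Cfsg.Agent.H413.U45 Cfsg.Agent.H380.UF

universe u

/-- **A group with the prime graph of `PSU(4,5)` is almost simple with socle `PSU(4,5)`.** -/
theorem structure_all : Structure.{u} := by
  apply Cfsg.Agent.H413.U45.Reduct.structure_of
  intro G _ _ hG K _ S hS
  rcases Cfsg.Agent.H799.U45.naming hG hS with h | h | h | h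
  · obtain ⟨F, _, _, hF, ⟨e⟩⟩ := h
    exact ⟨e.trans (psuEquiv (hF.trans (by norm_num)))⟩
  · exact absurd h (Cfsg.Agent.H413.U45.ExclL.no_psl213 hG K S hS)
  · exact absurd h (Cfsg.Agent.H799.U45.no_g24 hG hS)
  · exact absurd h (Cfsg.Agent.H799.U45.no_sz8 hG hS)

end Cfsg.Agent.H380.UF.Final
end
end
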